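import Mathlib

/-!
# Coproducts in a localization (helper27)

Dual of `Mathlib.CategoryTheory.Localization.FiniteProducts`, obtained by passing to opposite
categories.
-/

set_option autoImplicit false

open CategoryTheory CategoryTheory.Limits

namespace Groth.Agent.Lib27.LocCoprod

variable {C D : Type*} [Category C] [Category D] (W : MorphismProperty C)

/-- stability under coproducts passes to stability under products of the opposite property. -/
theorem op_isStableUnderProductsOfShape (J : Type*) [W.IsStableUnderCoproductsOfShape J] :
    W.op.IsStableUnderProductsOfShape J := by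
  have h1 : W.IsStableUnderColimitsOfShape (Discrete J)ᵒᵖ := by
    rw [MorphismProperty.isStableUnderColimitsOfShape_iff_colimitsOfShape_le,
      W.colimitsOfShape_eq_of_equivalence (Discrete.opposite J)]
    exact MorphismProperty.colimitsOfShape_le
  constructor
  intro X₁ X₂ c₁ c₂ h₁ h₂ f hf φ hφ
  refine h1.condition X₂.leftOp X₁.leftOp (coconeLeftOpOfCone c₂) (coconeLeftOpOfCone c₁)
    (isColimitCoconeLeftOpOfCone _ h₂) (isColimitCoconeLeftOpOfCone _ h₁) (NatTrans.leftOp f)
    (fun j => hf j.unop) φ.unop (fun j => ?_)
  apply Quiver.Hom.op_inj
  simpa using hφ j.unop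

/-- if `W` is stable under coproducts of a finite shape, the localized category has these
coproducts and the localization functor preserves them. -/
theorem hasCoproductsOfShape_and_preserves (L : C ⥤ D) [L.IsLocalization W]
    [W.ContainsIdentities] (J : Type) [Finite J] [HasCoproductsOfShape J C]
    [W.IsStableUnderCoproductsOfShape J] :
    HasCoproductsOfShape J D ∧ PreservesColimitsOfShape (Discrete J) L := by
  haveI := op_isStableUnderProductsOfShape W J
  haveI : HasProductsOfShape J Dᵒᵖ := Localization.hasProductsOfShape L.op W.op J
  haveI : PreservesLimitsOfShape (Discrete J) L.op :=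
    Localization.preservesProductsOfShape L.op W.op J
  haveI : PreservesLimitsOfShape (Discrete J)ᵒᵖ L.op :=
    preservesLimitsOfShape_of_equiv (Discrete.opposite J).symm L.op
  haveI : HasLimitsOfShape (Discrete J)ᵒᵖ Dᵒᵖ :=
    hasLimitsOfShape_of_equivalence (Discrete.opposite J).symm
  exact ⟨hasColimitsOfShape_of_hasLimitsOfShape_op, preservesColimitsOfShape_of_op _ L⟩

end Groth.Agent.Lib27.LocCoprod
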