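import Mathlib

/-!
# Pullback squares in a localization with a right calculus of fractions (helper27)

If a commutative square in `C` has the universal property of a pullback "up to precomposition
with morphisms in `W`", then its image in the localization is a pullback square.
-/

set_option autoImplicit false

open CategoryTheory CategoryTheory.Limits

namespace Groth.Agent.Lib27.LocPullback

variable {C D : Type*} [Category C] [Category D] (L : C ⥤ D) (W : MorphismProperty C)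
  [L.IsLocalization W] [W.HasRightCalculusOfFractions]

/-- a morphism in the localization is a right fraction. -/
lemma exists_fraction {Z A : C} (α : L.obj Z ⟶ L.obj A) :
    ∃ (Z' : C) (s : Z' ⟶ Z) (_ : W s) (a : Z' ⟶ A), L.map s ≫ α = L.map a := by
  obtain ⟨φ, rfl⟩ := Localization.exists_rightFraction L W α
  exact ⟨φ.X', φ.s, φ.hs, φ.f, φ.map_s_comp_map L _⟩

/-- two morphisms with the same source in the localization have a common denominator. -/
lemma exists_fraction₂ {Z A B : C} (α : L.obj Z ⟶ L.obj A) (β : L.obj Z ⟶ L.obj B) :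
    ∃ (Z' : C) (s : Z' ⟶ Z) (_ : W s) (a : Z' ⟶ A) (b : Z' ⟶ B),
      L.map s ≫ α = L.map a ∧ L.map s ≫ β = L.map b := by
  obtain ⟨Z₁, s₁, hs₁, a₁, h₁⟩ := exists_fraction L W α
  obtain ⟨Z₂, s₂, hs₂, b₂, h₂⟩ := exists_fraction L W β
  obtain ⟨ψ, hψ⟩ := MorphismProperty.HasRightCalculusOfFractions.exists_rightFraction (W := W)
    (MorphismProperty.LeftFraction.mk s₂ s₁ hs₁)
  have hψ' : ψ.s ≫ s₂ = ψ.f ≫ s₁ := hψ
  refine ⟨ψ.X', ψ.s ≫ s₂, W.comp_mem _ _ ψ.hs hs₂, ψ.f ≫ a₁, ψ.s ≫ b₂, ?_, ?_⟩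
  · rw [hψ', L.map_comp, Category.assoc, h₁, ← L.map_comp]
  · rw [L.map_comp, Category.assoc, h₂, ← L.map_comp]

/-- **pullback squares in the localization.** -/
theorem isPullback_map {Y T X P : C} (pT : Y ⟶ T) (pX : Y ⟶ X) (g : T ⟶ P) (f : X ⟶ P)
    (w : pT ≫ g = pX ≫ f)
    (hA : ∀ (Z : C) (a : Z ⟶ T) (b : Z ⟶ X), a ≫ g = b ≫ f →
      ∃ (Z' : C) (t : Z' ⟶ Z) (_ : W t) (c : Z' ⟶ Y), c ≫ pT = t ≫ a ∧ c ≫ pX = t ≫ b)
    (hB : ∀ (Z : C) (c c' : Z ⟶ Y), c ≫ pT = c' ≫ pT → c ≫ pX = c' ≫ pX →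
      ∃ (Z' : C) (t : Z' ⟶ Z) (_ : W t), t ≫ c = t ≫ c') :
    IsPullback (L.map pT) (L.map pX) (L.map g) (L.map f) := by
  have hw : L.map pT ≫ L.map g = L.map pX ≫ L.map f := by
    rw [← L.map_comp, ← L.map_comp, w]
  -- existence for cone points of the form `L.obj Z`
  have hex : ∀ (Z : C) (α : L.obj Z ⟶ L.obj T) (β : L.obj Z ⟶ L.obj X),
      α ≫ L.map g = β ≫ L.map f →
      ∃ l : L.obj Z ⟶ L.obj Y, l ≫ L.map pT = α ∧ l ≫ L.map pX = β := by
    intro Z α β hαβ
    obtain ⟨Z₃, s₃, hs₃, a₃, b₃, ha₃, hb₃⟩ := exists_fraction₂ L W α β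
    have h1 : L.map (a₃ ≫ g) = L.map (b₃ ≫ f) := by
      rw [L.map_comp, L.map_comp, ← ha₃, ← hb₃, Category.assoc, Category.assoc, hαβ]
    obtain ⟨Z₄, t₄, ht₄, h4⟩ := (MorphismProperty.map_eq_iff_precomp L W _ _).mp h1
    obtain ⟨Z₅, t₅, ht₅, c, hc1, hc2⟩ := hA Z₄ (t₄ ≫ a₃) (t₄ ≫ b₃) (by
      rw [Category.assoc, Category.assoc]; exact h4)
    haveI : IsIso (L.map s₃) := Localization.inverts L W _ hs₃
    haveI : IsIso (L.map t₄) := Localization.inverts L W _ ht₄
    haveI : IsIso (L.map t₅) := Localization.inverts L W _ ht₅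
    refine ⟨inv (L.map s₃) ≫ inv (L.map t₄) ≫ inv (L.map t₅) ≫ L.map c, ?_, ?_⟩
    · rw [Category.assoc, Category.assoc, Category.assoc, ← L.map_comp, hc1, L.map_comp,
        L.map_comp, IsIso.inv_hom_id_assoc, IsIso.inv_hom_id_assoc, ← ha₃,
        IsIso.inv_hom_id_assoc]
    · rw [Category.assoc, Category.assoc, Category.assoc, ← L.map_comp, hc2, L.map_comp,
        L.map_comp, IsIso.inv_hom_id_assoc, IsIso.inv_hom_id_assoc, ← hb₃,
        IsIso.inv_hom_id_assoc]
  have huniq : ∀ (Z : C) (γ γ' : L.obj Z ⟶ L.obj Y), γ ≫ L.map pT = γ' ≫ L.map pT →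
      γ ≫ L.map pX = γ' ≫ L.map pX → γ = γ' := by
    intro Z γ γ' h1 h2
    obtain ⟨Z₃, s₃, hs₃, c, c', hc, hc'⟩ := exists_fraction₂ L W γ γ'
    haveI : IsIso (L.map s₃) := Localization.inverts L W _ hs₃
    have e1 : L.map (c ≫ pT) = L.map (c' ≫ pT) := by
      rw [L.map_comp, L.map_comp, ← hc, ← hc', Category.assoc, Category.assoc, h1]
    obtain ⟨Z₄, t₄, ht₄, h4⟩ := (MorphismProperty.map_eq_iff_precomp L W _ _).mp e1
    have e2 : L.map ((t₄ ≫ c) ≫ pX) = L.map ((t₄ ≫ c') ≫ pX) := by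
      rw [Category.assoc, Category.assoc, L.map_comp, L.map_comp (f := t₄), L.map_comp,
        L.map_comp (f := c'), ← hc, ← hc', Category.assoc, Category.assoc, h2]
    obtain ⟨Z₅, t₅, ht₅, h5⟩ := (MorphismProperty.map_eq_iff_precomp L W _ _).mp e2
    obtain ⟨Z₆, t₆, ht₆, h6⟩ := hB Z₅ (t₅ ≫ t₄ ≫ c) (t₅ ≫ t₄ ≫ c') (by
      rw [Category.assoc, Category.assoc, Category.assoc, Category.assoc, h4]) (by
      rw [Category.assoc, Category.assoc, Category.assoc, Category.assoc]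
      rw [Category.assoc, Category.assoc] at h5
      exact h5)
    have e3 : L.map c = L.map c' :=
      (MorphismProperty.map_eq_iff_precomp L W _ _).mpr ⟨Z₆, t₆ ≫ t₅ ≫ t₄,
        W.comp_mem _ _ ht₆ (W.comp_mem _ _ ht₅ ht₄), by
          rw [Category.assoc, Category.assoc, Category.assoc, Category.assoc]; exact h6⟩
    rw [← cancel_epi (L.map s₃), hc, hc', e3]
  -- general cone points
  haveI : L.EssSurj := Localization.essSurj L W
  have hex' : ∀ (d : D) (α : d ⟶ L.obj T) (β : d ⟶ L.obj X), α ≫ L.map g = β ≫ L.map f →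
      ∃ l : d ⟶ L.obj Y, l ≫ L.map pT = α ∧ l ≫ L.map pX = β := by
    intro d α β hαβ
    obtain ⟨l, hl1, hl2⟩ := hex (L.objPreimage d) ((L.objObjPreimageIso d).hom ≫ α)
      ((L.objObjPreimageIso d).hom ≫ β) (by rw [Category.assoc, Category.assoc, hαβ])
    refine ⟨(L.objObjPreimageIso d).inv ≫ l, ?_, ?_⟩
    · rw [Category.assoc, hl1, Iso.inv_hom_id_assoc]
    · rw [Category.assoc, hl2, Iso.inv_hom_id_assoc]
  have huniq' : ∀ (d : D) (γ γ' : d ⟶ L.obj Y), γ ≫ L.map pT = γ' ≫ L.map pT →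
      γ ≫ L.map pX = γ' ≫ L.map pX → γ = γ' := by
    intro d γ γ' h1 h2
    rw [← cancel_epi (L.objObjPreimageIso d).hom]
    exact huniq _ _ _ (by rw [Category.assoc, Category.assoc, h1])
      (by rw [Category.assoc, Category.assoc, h2])
  refine ⟨⟨hw⟩, ⟨PullbackCone.IsLimit.mk hw
    (fun s => (hex' s.pt s.fst s.snd s.condition).choose)
    (fun s => (hex' s.pt s.fst s.snd s.condition).choose_spec.1)
    (fun s => (hex' s.pt s.fst s.snd s.condition).choose_spec.2)
    (fun s m h1 h2 => huniq' _ _ _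
      (h1.trans (hex' s.pt s.fst s.snd s.condition).choose_spec.1.symm)
      (h2.trans (hex' s.pt s.fst s.snd s.condition).choose_spec.2.symm))⟩⟩

include W in
/-- the image of a terminal object in the localization is terminal. -/
theorem isTerminal_obj {t : C} (ht : IsTerminal t) : Nonempty (IsTerminal (L.obj t)) := by
  haveI : L.EssSurj := Localization.essSurj L W
  have huniq : ∀ (Z : C) (α : L.obj Z ⟶ L.obj t), α = L.map (ht.from Z) := by
    intro Z α
    obtain ⟨Z', s, hs, a, ha⟩ := exists_fraction L W α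
    haveI : IsIso (L.map s) := Localization.inverts L W _ hs
    rw [← cancel_epi (L.map s), ha, ← L.map_comp]
    congr 1
    exact ht.hom_ext _ _
  refine ⟨IsTerminal.ofUniqueHom (fun d => (L.objObjPreimageIso d).inv ≫
    L.map (ht.from (L.objPreimage d))) (fun d m => ?_)⟩
  rw [← cancel_epi (L.objObjPreimageIso d).hom, Iso.hom_inv_id_assoc]
  exact huniq _ _

include W in
/-- if the images of all cospans of `C` have pullbacks in the localization, then the localization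
has pullbacks. -/
theorem hasPullbacks_of_map
    (h : ∀ {X T P : C} (f : X ⟶ P) (g : T ⟶ P), HasPullback (L.map f) (L.map g)) :
    HasPullbacks D := by
  haveI : L.EssSurj := Localization.essSurj L W
  suffices hh : ∀ {d₁ d₂ d₃ : D} {α : d₁ ⟶ d₃} {β : d₂ ⟶ d₃}, HasLimit (cospan α β) from
    hasPullbacks_of_hasLimit_cospan D
  intro d₁ d₂ d₃ α β
  let e₁ := L.objObjPreimageIso d₁
  let e₂ := L.objObjPreimageIso d₂
  let e₃ := L.objObjPreimageIso d₃
  obtain ⟨Z₁, s, hs, f', hf'⟩ := exists_fraction L W (e₁.hom ≫ α ≫ e₃.inv)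
  obtain ⟨Z₂, t, ht, g', hg'⟩ := exists_fraction L W (e₂.hom ≫ β ≫ e₃.inv)
  haveI : IsIso (L.map s) := Localization.inverts L W _ hs
  haveI : IsIso (L.map t) := Localization.inverts L W _ ht
  haveI : HasLimit (cospan (L.map f') (L.map g')) := h f' g'
  refine hasLimit_of_iso (F := cospan (L.map f') (L.map g'))
    (cospanExt (asIso (L.map s) ≪≫ e₁) (asIso (L.map t) ≪≫ e₂) e₃ ?_ ?_)
  · change (L.map s ≫ e₁.hom) ≫ α = L.map f' ≫ e₃.hom
    rw [← hf']
    simp
  · change (L.map t ≫ e₂.hom) ≫ β = L.map g' ≫ e₃.hom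
    rw [← hg']
    simp

end Groth.Agent.Lib27.LocPullback
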